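import Groth.Agent.Lib.Helper16.KZeroPID
import Groth.Agent.Lib.Helper16.ResK0.OneStep

/-!
# Dévissage for `G₀` of a Noetherian ring (helper16)

* `cl_mem_closure_primes`: `G₀(A)` is generated by the classes `[A/p]`, `p` prime.
* `cl_quot_sup_span_eq_zero`: `[A/(q + (f))] = 0` if `q` is prime and `f ∉ q`.
* `cl_quot_eq_zero_of_lt`: if `A/q` is a PID and `p` is a prime strictly containing `q`, then
  `[A/p] = 0`.
-/

set_option autoImplicit false
universe u
open CategoryTheory

namespace Groth.Agent.Lib.Helper16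

namespace G0Ring

open KZeroPID

variable {A : Type u} [CommRing A]

/-- `K0sub (FinP A)` is generated by the classes of finite modules. -/
lemma mem_closure_cl (x : KZero.K0sub (FinP A)) :
    x ∈ AddSubgroup.closure {y | ∃ (M : Type u) (_ : AddCommGroup M) (_ : Module A M)
      (_ : Module.Finite A M), y = cl A M} := by
  induction x using ResK0.K0sub_induction with
  | h0 => exact AddSubgroup.zero_mem _
  | hg X h =>
    refine AddSubgroup.subset_closure ⟨X, inferInstance, inferInstance, h, ?_⟩
    rw [cl, clSub_eq _ (show Module.Finite A (ModuleCat.of A X) from h)]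
    rfl
  | hneg x ih => exact AddSubgroup.neg_mem _ ih
  | hadd x y hx hy => exact AddSubgroup.add_mem _ hx hy

variable [IsNoetherianRing A]

/-- Dévissage: the class of a finite module lies in the subgroup generated by the `[A/p]`. -/
lemma cl_mem_closure_primes (M : Type u) [AddCommGroup M] [Module A M] [hM : Module.Finite A M] :
    cl A M ∈ AddSubgroup.closure
      (Set.range fun p : PrimeSpectrum A => cl A (A ⧸ p.asIdeal)) := by
  induction hM using IsNoetherianRing.induction_on_isQuotientEquivQuotientPrime A with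
  | subsingleton N =>
    rw [cl_of_subsingleton]
    exact AddSubgroup.zero_mem _
  | quotient N p e =>
    have : Module.Finite A (A ⧸ p.asIdeal) := Module.Finite.equiv e
    rw [cl_of_linearEquiv e.symm]
    exact AddSubgroup.subset_closure ⟨p, rfl⟩
  | exact N₁ N₂ N₃ f g hf hg hfg h₁ h₃ =>
    rw [cl_of_exact f g hf hg hfg]
    exact AddSubgroup.add_mem _ h₁ h₃

/-- The whole group is generated by the `[A/p]`. -/
lemma closure_primes_eq_top :
    AddSubgroup.closure (Set.range fun p : PrimeSpectrum A => cl A (A ⧸ p.asIdeal)) = ⊤ := by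
  rw [eq_top_iff]
  intro x _
  have hx := mem_closure_cl x
  refine (AddSubgroup.closure_le _).2 ?_ hx
  rintro y ⟨M, _, _, _, rfl⟩
  exact cl_mem_closure_primes M

omit [IsNoetherianRing A] in
/-- `[A/(q + (f))] = 0` for `q` prime and `f ∉ q`. -/
lemma cl_quot_sup_span_eq_zero (q : Ideal A) [q.IsPrime] (f : A) (hf : f ∉ q) :
    cl A (A ⧸ (q ⊔ Ideal.span {f})) = 0 := by
  have hle : q ≤ q ⊔ Ideal.span {f} := le_sup_left
  let φ : (A ⧸ q) →ₗ[A] (A ⧸ q) := LinearMap.lsmul A (A ⧸ q) f
  let ψ : (A ⧸ q) →ₗ[A] (A ⧸ (q ⊔ Ideal.span {f})) :=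
    Submodule.liftQ q (Submodule.mkQ (q ⊔ Ideal.span {f})) (by
      intro a ha
      rw [LinearMap.mem_ker, Submodule.mkQ_apply, Submodule.Quotient.mk_eq_zero]
      exact hle ha)
  have hφ : Function.Injective φ := by
    rw [injective_iff_map_eq_zero]
    intro a ha
    obtain ⟨a, rfl⟩ := Ideal.Quotient.mk_surjective a
    change f • (Ideal.Quotient.mk q a) = 0 at ha
    rw [Algebra.smul_def, Ideal.Quotient.algebraMap_eq, ← map_mul,
      Ideal.Quotient.eq_zero_iff_mem] at ha
    rw [Ideal.Quotient.eq_zero_iff_mem]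
    exact (Ideal.IsPrime.mem_or_mem ‹_› ha).resolve_left hf
  have hψ : Function.Surjective ψ := by
    intro b
    obtain ⟨b, rfl⟩ := Submodule.mkQ_surjective _ b
    exact ⟨Submodule.mkQ q b, rfl⟩
  have hex : Function.Exact φ ψ := by
    intro b
    obtain ⟨b, rfl⟩ := Ideal.Quotient.mk_surjective b
    constructor
    · intro hb
      change Submodule.mkQ (q ⊔ Ideal.span {f}) b = 0 at hb
      rw [Submodule.mkQ_apply, Submodule.Quotient.mk_eq_zero] at hb
      obtain ⟨c, hc, d, hd, rfl⟩ := Submodule.mem_sup.1 hb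
      obtain ⟨r, rfl⟩ := Ideal.mem_span_singleton'.1 hd
      refine ⟨Ideal.Quotient.mk q r, ?_⟩
      change f • (Ideal.Quotient.mk q r) = _
      rw [Algebra.smul_def, Ideal.Quotient.algebraMap_eq, ← map_mul, map_add,
        Ideal.Quotient.eq_zero_iff_mem.2 hc, zero_add, mul_comm]
    · rintro ⟨a, ha⟩
      rw [← ha]
      obtain ⟨a, rfl⟩ := Ideal.Quotient.mk_surjective a
      change Submodule.mkQ (q ⊔ Ideal.span {f}) (f • a) = 0
      rw [Submodule.mkQ_apply, Submodule.Quotient.mk_eq_zero]
      exact Ideal.mul_mem_right _ _ (Ideal.mem_sup_right (Ideal.subset_span rfl))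
  have := cl_of_exact φ ψ hφ hψ hex
  exact left_eq_add.1 this

omit [IsNoetherianRing A] in
/-- If `A/q` is a principal ideal domain and `p` is a prime ideal strictly containing `q`,
then `[A/p] = 0` in `G₀(A)`. -/
lemma cl_quot_eq_zero_of_lt (q : Ideal A) [q.IsPrime] [IsPrincipalIdealRing (A ⧸ q)]
    (p : Ideal A) (hqp : q < p) : cl A (A ⧸ p) = 0 := by
  obtain ⟨g, hg⟩ := (IsPrincipalIdealRing.principal (p.map (Ideal.Quotient.mk q))).principal
  obtain ⟨f, rfl⟩ := Ideal.Quotient.mk_surjective g
  have hp : p = q ⊔ Ideal.span {f} := by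
    have h1 : Ideal.comap (Ideal.Quotient.mk q) (p.map (Ideal.Quotient.mk q)) = p := by
      rw [Ideal.comap_map_of_surjective _ Ideal.Quotient.mk_surjective, ← RingHom.ker_eq_comap_bot,
        Ideal.mk_ker, sup_eq_left.2 hqp.le]
    have h2 : Ideal.comap (Ideal.Quotient.mk q) ((Ideal.span {f}).map (Ideal.Quotient.mk q)) =
        Ideal.span {f} ⊔ q := by
      rw [Ideal.comap_map_of_surjective _ Ideal.Quotient.mk_surjective, ← RingHom.ker_eq_comap_bot,
        Ideal.mk_ker]
    rw [Ideal.map_span, Set.image_singleton] at h2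
    have hg' : p.map (Ideal.Quotient.mk q) = Ideal.span {Ideal.Quotient.mk q f} := hg
    rw [← h1, hg', h2, sup_comm]
  have hf : f ∉ q := by
    intro hf
    apply hqp.ne
    rw [hp, eq_comm, sup_eq_left, Ideal.span_singleton_le_iff_mem]
    exact hf
  have h := cl_quot_sup_span_eq_zero q f hf
  have hfin : Module.Finite A (A ⧸ (q ⊔ Ideal.span {f})) := inferInstance
  rw [← h]
  exact cl_of_linearEquiv (Submodule.quotEquivOfEq _ _ hp.symm)

end G0Ring

end Groth.Agent.Lib.Helper16
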