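import Groth.Agent.Lib.Helper16.KZeroPID
import Groth.Agent.Lib.Helper16.ResK0.OneStep

/-!
# The length at a minimal prime as an additive function on `G₀(A)` (helper16)

For a Noetherian ring `A` and a minimal prime `p`, `M ↦ length_{A_p}(M_p)` induces a homomorphism
`lengthHom p : G₀(A) →+ ℤ`.
-/

set_option autoImplicit false
universe u
open CategoryTheory

namespace Groth.Agent.Lib.Helper16

namespace G0Ring

open KZeroPID

variable {A : Type u} [CommRing A]

/-- the localization at a minimal prime of a Noetherian ring is Artinian -/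
lemma isArtinianRing_localization_of_mem_minimalPrimes [IsNoetherianRing A] (p : Ideal A)
    [p.IsPrime] (hp : p ∈ minimalPrimes A) : IsArtinianRing (Localization.AtPrime p) := by
  rw [isArtinianRing_iff_krullDimLE_zero, Ring.krullDimLE_iff,
    IsLocalization.AtPrime.ringKrullDim_eq_height p (Localization.AtPrime p)]
  rw [Ideal.height_eq_zero_iff.2 hp]
  rfl

variable (p : Ideal A) [p.IsPrime]

/-- the length of the localization of `M` at `p` -/
noncomputable def locLength (M : Type u) [AddCommGroup M] [Module A M] : ℕ∞ :=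
  Module.length (Localization.AtPrime p) (LocalizedModule p.primeCompl M)

lemma locLength_ne_top [IsArtinianRing (Localization.AtPrime p)] (M : Type u) [AddCommGroup M]
    [Module A M] [Module.Finite A M] : locLength p M ≠ ⊤ := by
  have : Module.Finite (Localization.AtPrime p) (LocalizedModule p.primeCompl M) :=
    inferInstance
  exact Module.length_ne_top

lemma locLength_exact {M₁ M₂ M₃ : Type u} [AddCommGroup M₁] [Module A M₁] [AddCommGroup M₂]
    [Module A M₂] [AddCommGroup M₃] [Module A M₃] (f : M₁ →ₗ[A] M₂) (g : M₂ →ₗ[A] M₃)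
    (hf : Function.Injective f) (hg : Function.Surjective g) (hfg : Function.Exact f g) :
    locLength p M₂ = locLength p M₁ + locLength p M₃ := by
  refine Module.length_eq_add_of_exact (LocalizedModule.map p.primeCompl f)
    (LocalizedModule.map p.primeCompl g) (LocalizedModule.map_injective _ f hf)
    (LocalizedModule.map_surjective _ g hg) ?_
  exact LocalizedModule.map_exact p.primeCompl f g hfg

variable [IsArtinianRing (Localization.AtPrime p)]

/-- The homomorphism `G₀(A) →+ ℤ`, `[M] ↦ length_{A_p}(M_p)`, for `A_p` Artinian. -/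
noncomputable def lengthHom : KZero.K0sub (FinP A) →+ ℤ :=
  ResK0.K0lift (fun (X : ModuleCat.{u} A) (_ : FinP A X) => ((locLength p X).toNat : ℤ)) (by
    intro K L B hs hK hL hB
    obtain ⟨i, q, w, hS⟩ := hs
    have hK' : Module.Finite A K := hK
    have hL' : Module.Finite A L := hL
    have hB' : Module.Finite A B := hB
    have h := locLength_exact p i.hom q.hom hS.moduleCat_injective_f hS.moduleCat_surjective_g
      ((ShortComplex.ShortExact.moduleCat_exact_iff_function_exact _).1 hS.exact)
    have h1 := locLength_ne_top p K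
    have h2 := locLength_ne_top p B
    rw [h, ENat.toNat_add h1 h2]
    push_cast
    rfl)

lemma lengthHom_cl (M : Type u) [AddCommGroup M] [Module A M] [Module.Finite A M] :
    lengthHom p (cl A M) = ((locLength p M).toNat : ℤ) := by
  rw [cl, clSub_eq _ (show Module.Finite A (ModuleCat.of A M) from ‹_›)]
  unfold lengthHom
  simp only [ResK0.K0lift, QuotientAddGroup.lift_mk, FreeAbelianGroup.lift_apply_of]

omit [IsArtinianRing (Localization.AtPrime p)] in
lemma locLength_quotient_eq_zero (q : Ideal A) (hq : ¬ q ≤ p) : locLength p (A ⧸ q) = 0 := by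
  rw [locLength, Module.length_eq_zero_iff]
  have h : (⟨p, ‹_›⟩ : PrimeSpectrum A) ∉ Module.support A (A ⧸ q) := by
    rw [Module.support_eq_zeroLocus, Ideal.annihilator_quotient]
    exact hq
  rw [Module.notMem_support_iff] at h
  exact h

omit [IsArtinianRing (Localization.AtPrime p)] in
lemma locLength_quotient_ne_zero (q : Ideal A) (hq : q ≤ p) : locLength p (A ⧸ q) ≠ 0 := by
  rw [locLength, Ne, Module.length_eq_zero_iff, not_subsingleton_iff_nontrivial]
  have h : (⟨p, ‹_›⟩ : PrimeSpectrum A) ∈ Module.support A (A ⧸ q) := by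
    rw [Module.support_eq_zeroLocus, Ideal.annihilator_quotient]
    exact hq
  rw [Module.mem_support_iff] at h
  exact h

lemma lengthHom_cl_quotient_eq_zero (q : Ideal A) (hq : ¬ q ≤ p) :
    lengthHom p (cl A (A ⧸ q)) = 0 := by
  rw [lengthHom_cl, locLength_quotient_eq_zero p q hq]
  rfl

lemma lengthHom_cl_quotient_ne_zero [IsNoetherianRing A] (q : Ideal A) (hq : q ≤ p) :
    lengthHom p (cl A (A ⧸ q)) ≠ 0 := by
  rw [lengthHom_cl]
  have h1 := locLength_quotient_ne_zero p q hq
  have h2 := locLength_ne_top p (A ⧸ q)
  intro h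
  have h3 : (locLength p (A ⧸ q)).toNat = 0 := by exact_mod_cast h
  rw [ENat.toNat_eq_zero] at h3
  exact h3.elim h1 h2

end G0Ring

end Groth.Agent.Lib.Helper16
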