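import Groth.Agent.Lib.Helper16.G0Ring.Devissage
import Groth.Agent.Lib.Helper16.G0Ring.Length

/-!
# `G₀` of the node `k[x,y]/(xy)` (helper16)
-/

set_option autoImplicit false
universe u
open CategoryTheory

namespace Groth.Agent.Lib.Helper16

namespace G0Node

open KZeroPID G0Ring

variable (k : Type u) [Field k]

/-- the polynomial ring `k[x,y]` -/
abbrev R := MvPolynomial (Fin 2) k
/-- the ideal `(xy)` -/
noncomputable abbrev I : Ideal (R k) := Ideal.span {(MvPolynomial.X 0 * MvPolynomial.X 1 : MvPolynomial (Fin 2) k)}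
/-- the node -/
abbrev A := R k ⧸ I k
/-- the classes of the variables -/
noncomputable abbrev x (i : Fin 2) : A k := Ideal.Quotient.mk (I k) (MvPolynomial.X i)
/-- the two minimal primes -/
noncomputable abbrev P (i : Fin 2) : Ideal (A k) := Ideal.span {x k i}

lemma x_mul : x k 0 * x k 1 = 0 := by
  rw [← map_mul, Ideal.Quotient.eq_zero_iff_mem]
  exact Ideal.subset_span rfl

lemma x_mul' (i j : Fin 2) (hij : i ≠ j) : x k i * x k j = 0 := by
  fin_cases i <;> fin_cases j
  · exact absurd rfl hij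
  · exact x_mul k
  · rw [mul_comm]; exact x_mul k
  · exact absurd rfl hij

lemma eq_or_eq (i j l : Fin 2) (hij : i ≠ j) : l = i ∨ l = j := by
  fin_cases i <;> fin_cases j <;> fin_cases l <;> simp_all

/-- evaluation `x_i ↦ 0`, `x_j ↦ X` -/
noncomputable def φ (i : Fin 2) : R k →ₐ[k] Polynomial k :=
  MvPolynomial.aeval (fun l => if l = i then 0 else Polynomial.X)

lemma φ_X_self (i : Fin 2) : φ k i (MvPolynomial.X i) = 0 := by
  simp [φ]

lemma φ_X_of_ne (i j : Fin 2) (hij : i ≠ j) : φ k i (MvPolynomial.X j) = Polynomial.X := by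
  simp [φ, hij.symm]

lemma φ_mem (i : Fin 2) : I k ≤ RingHom.ker (φ k i : R k →+* Polynomial k) := by
  rw [Ideal.span_singleton_le_iff_mem, RingHom.mem_ker]
  change φ k i (MvPolynomial.X 0 * MvPolynomial.X 1) = 0
  rw [map_mul]
  rcases eq_or_eq 0 1 i (by decide) with rfl | rfl
  · rw [φ_X_self k 0, zero_mul]
  · rw [φ_X_self k 1, mul_zero]

/-- the induced map on the node -/
noncomputable def φ' (i : Fin 2) : A k →+* Polynomial k :=
  Ideal.Quotient.lift (I k) (φ k i : R k →+* Polynomial k) (fun _ ha => φ_mem k i ha)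

lemma φ'_mk (i : Fin 2) (a : R k) : φ' k i (Ideal.Quotient.mk (I k) a) = φ k i a := rfl

/-- the induced map on `A/(x_i)` -/
noncomputable def Φ (i : Fin 2) : A k ⧸ P k i →+* Polynomial k :=
  Ideal.Quotient.lift (P k i) (φ' k i) (by
    have : P k i ≤ RingHom.ker (φ' k i) := by
      rw [Ideal.span_singleton_le_iff_mem, RingHom.mem_ker, φ'_mk, φ_X_self]
    exact fun a ha => this ha)

lemma Φ_mk (i : Fin 2) (a : R k) :
    Φ k i (Ideal.Quotient.mk (P k i) (Ideal.Quotient.mk (I k) a)) = φ k i a := rfl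

/-- the inverse map -/
noncomputable def Ψ (i j : Fin 2) : Polynomial k →+* A k ⧸ P k i :=
  Polynomial.eval₂RingHom
    ((Ideal.Quotient.mk (P k i)).comp ((Ideal.Quotient.mk (I k)).comp MvPolynomial.C))
    (Ideal.Quotient.mk (P k i) (x k j))

lemma Φ_comp_Ψ (i j : Fin 2) (hij : i ≠ j) :
    (Φ k i).comp (Ψ k i j) = RingHom.id _ := by
  refine Polynomial.ringHom_ext (fun a => ?_) ?_
  · simp only [Ψ, RingHom.comp_apply, Polynomial.coe_eval₂RingHom, Polynomial.eval₂_C,
      RingHom.id_apply]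
    rw [Φ_mk]
    simp [φ]
  · simp only [Ψ, RingHom.comp_apply, Polynomial.coe_eval₂RingHom, Polynomial.eval₂_X,
      RingHom.id_apply]
    rw [Φ_mk, φ_X_of_ne k i j hij]

lemma Ψ_comp_Φ (i j : Fin 2) (hij : i ≠ j) :
    (Ψ k i j).comp (Φ k i) = RingHom.id _ := by
  refine Ideal.Quotient.ringHom_ext ?_
  refine Ideal.Quotient.ringHom_ext ?_
  refine MvPolynomial.ringHom_ext (fun a => ?_) (fun l => ?_)
  · simp only [RingHom.comp_apply, RingHom.id_apply]
    rw [Φ_mk]
    simp [φ, Ψ]
  · simp only [RingHom.comp_apply, RingHom.id_apply]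
    rw [Φ_mk]
    rcases eq_or_eq i j l hij with rfl | rfl
    · rw [φ_X_self, map_zero, eq_comm, Ideal.Quotient.eq_zero_iff_mem]
      exact Ideal.subset_span rfl
    · rw [φ_X_of_ne k i _ hij]
      simp [Ψ]

lemma Φ_injective (i j : Fin 2) (hij : i ≠ j) : Function.Injective (Φ k i) := by
  intro a b h
  have := congrArg (Ψ k i j) h
  have e := Ψ_comp_Φ k i j hij
  rw [← RingHom.comp_apply, ← RingHom.comp_apply, e] at this
  exact this

lemma Ψ_surjective (i j : Fin 2) (hij : i ≠ j) : Function.Surjective (Ψ k i j) := by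
  intro a
  refine ⟨Φ k i a, ?_⟩
  have e := Ψ_comp_Φ k i j hij
  rw [← RingHom.comp_apply, e]
  rfl

lemma isDomain_quot (i j : Fin 2) (hij : i ≠ j) : IsDomain (A k ⧸ P k i) :=
  Function.Injective.isDomain (Φ k i) (Φ_injective k i j hij)

lemma isPrime_P (i j : Fin 2) (hij : i ≠ j) : (P k i).IsPrime :=
  have := isDomain_quot k i j hij
  (Ideal.Quotient.isDomain_iff_prime _).1 inferInstance

lemma isPrincipalIdealRing_quot (i j : Fin 2) (hij : i ≠ j) :
    IsPrincipalIdealRing (A k ⧸ P k i) :=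
  IsPrincipalIdealRing.of_surjective (Ψ k i j) (Ψ_surjective k i j hij)

lemma x_notMem (i j : Fin 2) (hij : i ≠ j) : x k j ∉ P k i := by
  intro h
  have h0 : Ideal.Quotient.mk (P k i) (x k j) = 0 := Ideal.Quotient.eq_zero_iff_mem.2 h
  have := congrArg (Φ k i) h0
  rw [Φ_mk, φ_X_of_ne k i j hij, map_zero] at this
  exact Polynomial.X_ne_zero this

lemma not_le (i j : Fin 2) (hij : i ≠ j) : ¬ P k j ≤ P k i := fun h =>
  x_notMem k i j hij (h (Ideal.subset_span rfl))

/-- every prime contains `P i` or `P j` -/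
lemma le_or_le (i j : Fin 2) (hij : i ≠ j) (q : Ideal (A k)) [q.IsPrime] :
    P k i ≤ q ∨ P k j ≤ q := by
  have h : x k i * x k j ∈ q := by
    rw [x_mul' k i j hij]
    exact q.zero_mem
  rcases Ideal.IsPrime.mem_or_mem ‹_› h with h | h
  · exact Or.inl ((Ideal.span_singleton_le_iff_mem _).2 h)
  · exact Or.inr ((Ideal.span_singleton_le_iff_mem _).2 h)

lemma mem_minimalPrimes (i j : Fin 2) (hij : i ≠ j) : P k i ∈ minimalPrimes (A k) := by
  have := isPrime_P k i j hij
  refine ⟨⟨inferInstance, bot_le⟩, ?_⟩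
  rintro q ⟨hq, -⟩ hqP
  rcases le_or_le k i j hij q with h | h
  · exact h
  · exact absurd (h.trans hqP) (not_le k i j hij)

/-- the class `[A/P_i]` -/
noncomputable abbrev c (i : Fin 2) : KZero.K0sub (FinP (A k)) := cl (A k) (A k ⧸ P k i)

lemma cl_prime_mem (i j : Fin 2) (hij : i ≠ j) (q : Ideal (A k)) [q.IsPrime] :
    cl (A k) (A k ⧸ q) ∈ AddSubgroup.closure {c k i, c k j} := by
  have key : ∀ (i j : Fin 2), i ≠ j → P k i ≤ q →
      cl (A k) (A k ⧸ q) ∈ AddSubgroup.closure {c k i, c k j} := by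
    intro i j hij h
    by_cases he : P k i = q
    · subst he
      exact AddSubgroup.subset_closure (Set.mem_insert _ _)
    · have := isPrime_P k i j hij
      have := isPrincipalIdealRing_quot k i j hij
      rw [cl_quot_eq_zero_of_lt (P k i) q (lt_of_le_of_ne h he)]
      exact AddSubgroup.zero_mem _
  rcases le_or_le k i j hij q with h | h
  · exact key i j hij h
  · have := key j i hij.symm h
    rwa [Set.pair_comm] at this

lemma closure_pair_eq_top (i j : Fin 2) (hij : i ≠ j) :
    AddSubgroup.closure {c k i, c k j} = ⊤ := by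
  rw [eq_top_iff, ← closure_primes_eq_top (A := A k), AddSubgroup.closure_le]
  rintro _ ⟨q, rfl⟩
  exact cl_prime_mem k i j hij q.asIdeal

/-- `G₀(k[x,y]/(xy)) = ℤ[A/(x)] ⊕ ℤ[A/(y)]`. -/
theorem main (i j : Fin 2) (hij : i ≠ j) :
    Function.Bijective (fun p : ℤ × ℤ => p.1 • c k i + p.2 • c k j) := by
  have := isPrime_P k i j hij
  have := isPrime_P k j i hij.symm
  have := isArtinianRing_localization_of_mem_minimalPrimes (P k i) (mem_minimalPrimes k i j hij)
  have := isArtinianRing_localization_of_mem_minimalPrimes (P k j)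
    (mem_minimalPrimes k j i hij.symm)
  have hii : lengthHom (P k i) (c k i) ≠ 0 := lengthHom_cl_quotient_ne_zero _ _ le_rfl
  have hjj : lengthHom (P k j) (c k j) ≠ 0 := lengthHom_cl_quotient_ne_zero _ _ le_rfl
  have hij' : lengthHom (P k i) (c k j) = 0 :=
    lengthHom_cl_quotient_eq_zero _ _ (not_le k i j hij)
  have hji' : lengthHom (P k j) (c k i) = 0 :=
    lengthHom_cl_quotient_eq_zero _ _ (not_le k j i hij.symm)
  constructor
  · rintro ⟨a, b⟩ ⟨a', b'⟩ h
    simp only at h
    have h1 := congrArg (lengthHom (P k i)) h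
    have h2 := congrArg (lengthHom (P k j)) h
    simp only [map_add, map_zsmul, hij', hji', mul_zero, add_zero, zero_add, smul_eq_mul] at h1 h2
    rw [mul_right_cancel₀ hii h1, mul_right_cancel₀ hjj h2]
  · intro y
    have hy : y ∈ AddSubgroup.closure {c k i, c k j} := by
      rw [closure_pair_eq_top k i j hij]
      trivial
    obtain ⟨a, b, h⟩ := AddSubgroup.mem_closure_pair.1 hy
    exact ⟨(a, b), h⟩

end G0Node

end Groth.Agent.Lib.Helper16
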